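import Groth.Prelude.Def_EtBCD

/-!
# Degree-zero base change morphisms with values in an arbitrary category (helper23)

Generic versions (value category `A`) of direct/inverse images on small étale sites, their
composition isomorphisms and the base change morphism; the prelude's versions for sheaves of sets
and abelian sheaves are special cases (by `rfl`).
-/

set_option autoImplicit false
set_option backward.isDefEq.respectTransparency false
set_option backward.isDefEq.respectTransparency.types false

universe w v u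

open CategoryTheory CategoryTheory.Limits Opposite AlgebraicGeometry

namespace Groth.Agent.Lib.Helper23.BC0

variable (A : Type w) [Category.{v} A]

/-- sheaves with values in `A` on the small étale site -/
abbrev ShA (X : Scheme.{u}) := Sheaf X.smallEtaleTopology A

/-- direct image -/
noncomputable abbrev push {X Y : Scheme.{u}} (f : X ⟶ Y) : ShA A X ⥤ ShA A Y :=
  (EtCoh.bc f).sheafPushforwardContinuous A Y.smallEtaleTopology X.smallEtaleTopology

/-- the class of value categories for which inverse images exist -/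
class HasPull : Prop where
  isRightAdjoint : ∀ {X Y : Scheme.{u}} (f : X ⟶ Y), (push.{w, v, u} A f).IsRightAdjoint

attribute [instance] HasPull.isRightAdjoint

variable [HasPull.{w, v, u} A]

/-- inverse image -/
noncomputable abbrev pull {X Y : Scheme.{u}} (f : X ⟶ Y) : ShA A Y ⥤ ShA A X :=
  (EtCoh.bc f).sheafPullback A Y.smallEtaleTopology X.smallEtaleTopology

/-- the adjunction -/
noncomputable abbrev adj {X Y : Scheme.{u}} (f : X ⟶ Y) : pull A f ⊣ push A f :=
  (EtCoh.bc f).sheafAdjunctionContinuous A Y.smallEtaleTopology X.smallEtaleTopology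

/-- direct images compose -/
noncomputable def pushComp {X Y Z : Scheme.{u}} (f : X ⟶ Y) (g : Z ⟶ X) :
    push A g ⋙ push A f ≅ push A (g ≫ f) :=
  Functor.sheafPushforwardContinuousComp' (F := EtCoh.bc f) (G := EtCoh.bc g)
    (FG := EtCoh.bc (g ≫ f))
    ((MorphismProperty.Over.pullbackComp (P := EtCoh.etaleMP) (Q := ⊤) g f).symm :
      EtCoh.bc f ⋙ EtCoh.bc g ≅ EtCoh.bc (g ≫ f))
    A Y.smallEtaleTopology X.smallEtaleTopology Z.smallEtaleTopology

/-- transport of direct images along an equality -/
noncomputable def pushCongr {X Y : Scheme.{u}} {f f' : X ⟶ Y} (h : f = f') :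
    push A f ≅ push A f' :=
  Functor.sheafPushforwardContinuousIso (F := EtCoh.bc f) (F' := EtCoh.bc f')
    ((MorphismProperty.Over.pullbackCongr (P := EtCoh.etaleMP) (Q := ⊤) h) :
      EtCoh.bc f ≅ EtCoh.bc f')
    A Y.smallEtaleTopology X.smallEtaleTopology

/-- inverse images compose -/
noncomputable def pullComp {X Y Z : Scheme.{u}} (g : Z ⟶ X) (f : X ⟶ Y) :
    pull A (g ≫ f) ≅ pull A f ⋙ pull A g :=
  Adjunction.leftAdjointUniq (adj A (g ≫ f))
    (((adj A f).comp (adj A g)).ofNatIsoRight (pushComp A f g))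

/-- transport of inverse images along an equality -/
noncomputable def pullCongr {X Y : Scheme.{u}} {f f' : X ⟶ Y} (h : f = f') :
    pull A f ≅ pull A f' :=
  eqToIso (by rw [h])

variable {X S X' S' : Scheme.{u}}

/-- the adjoint form of the base change morphism -/
noncomputable def bcφ (f : X ⟶ S) (g : S' ⟶ S) (f' : X' ⟶ S') (g' : X' ⟶ X)
    (w : g' ≫ f = f' ≫ g) (F : ShA A X) :
    (push A f).obj F ⟶ (push A g).obj ((push A f').obj ((pull A g').obj F)) :=
  (push A f).map ((adj A g').unit.app F) ≫ (pushComp A f g').hom.app _ ≫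
    (pushCongr A w).hom.app _ ≫ (pushComp A g f').inv.app _

/-- the base change morphism `g^* f_* F ⟶ f'_* g'^* F` -/
noncomputable def bc0 (f : X ⟶ S) (g : S' ⟶ S) (f' : X' ⟶ S') (g' : X' ⟶ X)
    (w : g' ≫ f = f' ≫ g) (F : ShA A X) :
    (pull A g).obj ((push A f).obj F) ⟶ (push A f').obj ((pull A g').obj F) :=
  ((adj A g).homEquiv _ _).symm (bcφ A f g f' g' w F)

lemma unit_bc0 (f : X ⟶ S) (g : S' ⟶ S) (f' : X' ⟶ S') (g' : X' ⟶ X)
    (w : g' ≫ f = f' ≫ g) (F : ShA A X) :
    (adj A g).unit.app ((push A f).obj F) ≫ (push A g).map (bc0 A f g f' g' w F) =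
      bcφ A f g f' g' w F := by
  have h := ((adj A g).homEquiv _ _).apply_symm_apply (bcφ A f g f' g' w F)
  rw [Adjunction.homEquiv_unit] at h
  exact h

end Groth.Agent.Lib.Helper23.BC0

namespace Groth.Agent.Lib.Helper23.BC0

open CategoryTheory

/-- sheaves of sets -/
instance hasPull_type : HasPull.{u + 2, u + 1, u} (Type (u + 1)) where
  isRightAdjoint f := (EtDesc.adjSh f).isRightAdjoint

/-- abelian sheaves -/
instance hasPull_ab : HasPull.{u + 2, u + 1, u} AddCommGrpCat.{u + 1} where
  isRightAdjoint f := (EtCoh.pullPushAdj f).isRightAdjoint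

variable {X S X' S' : Scheme.{u}}

/-- the generic base change morphism specialises to the prelude's one for sheaves of sets -/
lemma bc0_type (f : X ⟶ S) (g : S' ⟶ S) (f' : X' ⟶ S') (g' : X' ⟶ X)
    (w : g' ≫ f = f' ≫ g) (F : EtDesc.Sh X) :
    bc0 (Type (u + 1)) f g f' g' w F = EtBC.baseChange0Sh f g f' g' w F := rfl

/-- the generic base change morphism specialises to the prelude's one for abelian sheaves -/
lemma bc0_ab (f : X ⟶ S) (g : S' ⟶ S) (f' : X' ⟶ S') (g' : X' ⟶ X)
    (w : g' ≫ f = f' ≫ g) (F : EtCoh.Ab X) :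
    bc0 AddCommGrpCat.{u + 1} f g f' g' w F = EtCoh.baseChange0 f g f' g' w F := rfl

end Groth.Agent.Lib.Helper23.BC0
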