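import Groth.Agent.Lib.Helper23.BC0.Paste2
import Groth.Agent.Lib.Helper23.EtRestr
import Groth.Agent.Lib.Helper23.EtJCont

/-!
# The degree-zero base change morphism along an étale morphism is an isomorphism (helper23)
-/

set_option autoImplicit false
set_option backward.isDefEq.respectTransparency false
set_option backward.isDefEq.respectTransparency.types false

universe w v u

open CategoryTheory CategoryTheory.Limits Opposite AlgebraicGeometry

namespace Groth.Agent.Lib.Helper23.BC0

open Groth.Agent.Lib.Helper23

variable (A : Type w) [Category.{v} A]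

section Res

variable {U X : Scheme.{u}} (j : U ⟶ X) [Etale j]

/-- restriction along an étale morphism -/
noncomputable abbrev res : ShA A X ⥤ ShA A U :=
  (EtShriek.compEtale j).sheafPushforwardContinuous A U.smallEtaleTopology X.smallEtaleTopology

/-- restriction is left adjoint to direct image -/
noncomputable def resAdj : res A j ⊣ push A j :=
  (EtRestr.adjSite j).sheafPushforwardContinuous _ _

lemma resAdj_unit_app (F : ShA A X) (V : X.Etaleᵒᵖ) :
    ((resAdj A j).unit.app F).hom.app V =
      F.obj.map ((EtRestr.adjSite j).counit.app V.unop).op :=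
  Adjunction.sheafPushforwardContinuous_unit_app_hom_app _ _ _ _ _

lemma resAdj_counit_app (G : ShA A U) (W : U.Etaleᵒᵖ) :
    ((resAdj A j).counit.app G).hom.app W =
      G.obj.map ((EtRestr.adjSite j).unit.app W.unop).op :=
  Adjunction.sheafPushforwardContinuous_counit_app_hom_app _ _ _ _ _

lemma res_map_app {F G : ShA A X} (φ : F ⟶ G) (W : U.Etaleᵒᵖ) :
    ((res A j).map φ).hom.app W = φ.hom.app (op ((EtShriek.compEtale j).obj W.unop)) := rfl

lemma res_obj_map (F : ShA A X) {W W' : U.Etaleᵒᵖ} (m : W ⟶ W') :
    ((res A j).obj F).obj.map m = F.obj.map ((EtShriek.compEtale j).map m.unop).op := rfl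

lemma adjSite_counit_left (V : X.Etale) :
    ((EtRestr.adjSite j).counit.app V).left = pr j V := rfl

lemma adjSite_unit_left_pr (W : U.Etale) :
    ((EtRestr.adjSite j).unit.app W).left ≫ pr j ((EtShriek.compEtale j).obj W) = 𝟙 _ := by
  dsimp [EtRestr.adjSite]
  exact pullback.lift_fst _ _ _

variable [HasPull.{w, v, u} A]

/-- inverse image along an étale morphism is restriction -/
noncomputable def pullIsoRes : pull A j ≅ res A j :=
  Adjunction.leftAdjointUniq (adj A j) (resAdj A j)

lemma unit_pullIsoRes (F : ShA A X) :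
    (adj A j).unit.app F ≫ (push A j).map ((pullIsoRes A j).hom.app F) =
      (resAdj A j).unit.app F :=
  Adjunction.unit_leftAdjointUniq_hom_app _ _ _

end Res

section Square

variable {X S X' S' : Scheme.{u}} (f : X ⟶ S) (g : S' ⟶ S) (f' : X' ⟶ S') (g' : X' ⟶ X)
  (w : g' ≫ f = f' ≫ g)

/-- the site-level comparison of iterated base changes for a commutative square -/
noncomputable def sqSite (V : S.Etale) :
    (EtCoh.bc f').obj ((EtCoh.bc g).obj V) ⟶ (EtCoh.bc g').obj ((EtCoh.bc f).obj V) :=
  (MorphismProperty.Over.pullbackComp (P := EtCoh.etaleMP) (Q := ⊤) f' g).inv.app V ≫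
    (MorphismProperty.Over.pullbackCongr (P := EtCoh.etaleMP) (Q := ⊤) w).inv.app V ≫
    (MorphismProperty.Over.pullbackComp (P := EtCoh.etaleMP) (Q := ⊤) g' f).hom.app V

lemma sqSite_pr (V : S.Etale) :
    (sqSite f g f' g' w V).left ≫ (pr g' _ ≫ pr f V) = pr f' _ ≫ pr g V := by
  refine comp_left_eq _ _ _ (pr (f' ≫ g) V) _ (comp_inv_pr f' g V) ?_
  refine comp_left_eq _ _ _ (pr (g' ≫ f) V) _ (congr_inv_pr w V) ?_
  exact comp_hom_pr g' f V

lemma sq_hom_app_app (N : ShA A X') (V : S.Etaleᵒᵖ) :
    ((sq A f g f' g' w).hom.app N).hom.app V = N.obj.map (sqSite f g f' g' w V.unop).op := by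
  rw [sq_hom_app]
  simp only [ObjectProperty.FullSubcategory.comp_hom, NatTrans.comp_app,
    pushComp_hom_app, pushComp_inv_app, pushCongr_hom_app, sqSite, op_comp, Functor.map_comp,
    Category.assoc]

variable [Etale g] [Etale g']

/-- the restriction version of the base change morphism -/
noncomputable def bcRes (F : ShA A X) :
    (res A g).obj ((push A f).obj F) ⟶ (push A f').obj ((res A g').obj F) :=
  ((resAdj A g).homEquiv _ _).symm
    ((push A f).map ((resAdj A g').unit.app F) ≫ (sq A f g f' g' w).hom.app _)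

/-- the site-level morphism inducing `bcRes` -/
noncomputable def mW (W : S'.Etale) :
    (EtShriek.compEtale g').obj ((EtCoh.bc f').obj W) ⟶
      (EtCoh.bc f).obj ((EtShriek.compEtale g).obj W) :=
  (EtShriek.compEtale g').map ((EtCoh.bc f').map ((EtRestr.adjSite g).unit.app W) ≫
      sqSite f g f' g' w ((EtShriek.compEtale g).obj W)) ≫
    (EtRestr.adjSite g').counit.app ((EtCoh.bc f).obj ((EtShriek.compEtale g).obj W))

lemma bcRes_app (F : ShA A X) (W : S'.Etaleᵒᵖ) :
    (bcRes A f g f' g' w F).hom.app W = F.obj.map (mW f g f' g' w W.unop).op := by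
  rw [bcRes, Adjunction.homEquiv_counit]
  simp only [ObjectProperty.FullSubcategory.comp_hom, NatTrans.comp_app, res_map_app,
    resAdj_counit_app, push_map_app, resAdj_unit_app, sq_hom_app_app, push_obj_map, res_obj_map,
    mW, op_comp, Functor.map_comp, Category.assoc]
  rfl

lemma mW_pr (W : S'.Etale) :
    (mW f g f' g' w W).left ≫ pr f ((EtShriek.compEtale g).obj W) = pr f' W := by
  have h1 := sqSite_pr f g f' g' w ((EtShriek.compEtale g).obj W)
  have h2 := bc_map_pr f' ((EtRestr.adjSite g).unit.app W)
  have h3 := adjSite_unit_left_pr g W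
  change (((EtCoh.bc f').map ((EtRestr.adjSite g).unit.app W)).left ≫
    (sqSite f g f' g' w ((EtShriek.compEtale g).obj W)).left) ≫
      pr g' ((EtCoh.bc f).obj ((EtShriek.compEtale g).obj W)) ≫
      pr f ((EtShriek.compEtale g).obj W) = pr f' W
  rw [Category.assoc, h1, reassoc_of% h2, h3]
  exact Category.comp_id _

/-- for a cartesian square, the comparison of base changes is an isomorphism -/
noncomputable def θ (c : IsPullback g' f' f g) (W : S'.Etale) :
    (EtShriek.compEtale g').obj ((EtCoh.bc f').obj W) ≅
      (EtCoh.bc f).obj ((EtShriek.compEtale g).obj W) :=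
  MorphismProperty.Over.isoMk
    (((IsPullback.of_hasPullback W.hom f').flip.paste_horiz c).flip.isoPullback)
    (IsPullback.isoPullback_hom_snd _)

lemma θ_pr (c : IsPullback g' f' f g) (W : S'.Etale) :
    (θ f g f' g' c W).hom.left ≫ pr f ((EtShriek.compEtale g).obj W) = pr f' W :=
  IsPullback.isoPullback_hom_fst _

lemma mW_eq (c : IsPullback g' f' f g) (W : S'.Etale) :
    mW f g f' g' w W = (θ f g f' g' c W).hom := by
  apply hom_ext_bc
  rw [mW_pr, θ_pr]

instance isIso_mW (c : IsPullback g' f' f g) (W : S'.Etale) : IsIso (mW f g f' g' c.w W) := by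
  rw [mW_eq f g f' g' c.w c]
  infer_instance

/-- the restriction version of the base change morphism is an isomorphism for a cartesian
square -/
theorem isIso_bcRes (c : IsPullback g' f' f g) (F : ShA A X) :
    IsIso (bcRes A f g f' g' c.w F) := by
  have h0 : ∀ W : S'.Etaleᵒᵖ, IsIso ((bcRes A f g f' g' c.w F).hom.app W) := by
    intro W
    rw [bcRes_app]
    have := isIso_mW f g f' g' c W.unop
    infer_instance
  have h1 : IsIso (bcRes A f g f' g' c.w F).hom := NatIso.isIso_of_isIso_app _
  have h2 : IsIso ((sheafToPresheaf S'.smallEtaleTopology A).map (bcRes A f g f' g' c.w F)) := h1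
  exact isIso_of_reflects_iso _ (sheafToPresheaf _ _)

variable [HasPull.{w, v, u} A]

/-- the base change morphism through the restriction version -/
lemma bc0_bcRes (F : ShA A X) :
    bc0 A f g f' g' w F ≫ (push A f').map ((pullIsoRes A g').hom.app F) =
      (pullIsoRes A g).hom.app _ ≫ bcRes A f g f' g' w F := by
  apply ((adj A g).homEquiv _ _).injective
  rw [Adjunction.homEquiv_unit, Adjunction.homEquiv_unit, Functor.map_comp, Functor.map_comp,
    ← Category.assoc, ← Category.assoc, unit_bc0, unit_pullIsoRes, bcφ_eq]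
  have n1 := (sq A f g f' g' w).hom.naturality ((pullIsoRes A g').hom.app F)
  have h2 := ((resAdj A g).homEquiv _ _).apply_symm_apply
    ((push A f).map ((resAdj A g').unit.app F) ≫ (sq A f g f' g' w).hom.app _)
  rw [Adjunction.homEquiv_unit] at h2
  simp only [Functor.comp_obj, Functor.comp_map] at n1
  simp only [Functor.id_obj] at h2
  rw [bcRes, h2, Category.assoc, ← n1, ← Category.assoc, ← Functor.map_comp, unit_pullIsoRes]

/-- **étale base change in degree zero**: the base change morphism along an étale morphism is an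
isomorphism for a cartesian square -/
theorem isIso_bc0_of_etale (c : IsPullback g' f' f g) (F : ShA A X) :
    IsIso (bc0 A f g f' g' c.w F) := by
  have := isIso_bcRes A f g f' g' c F
  have h := bc0_bcRes A f g f' g' c.w F
  have : IsIso (bc0 A f g f' g' c.w F ≫ (push A f').map ((pullIsoRes A g').hom.app F)) := by
    rw [h]
    infer_instance
  exact IsIso.of_isIso_comp_right _ ((push A f').map ((pullIsoRes A g').hom.app F))

end Square

section Square'

variable [HasPull.{w, v, u} A]

variable {X S X' S' : Scheme.{u}} (f : X ⟶ S) (g : S' ⟶ S) (f' : X' ⟶ S') (g' : X' ⟶ X)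

/-- **étale base change in degree zero**, only assuming that the base change morphism `g` is
étale -/
theorem isIso_bc0_of_etale' [Etale g] (c : IsPullback g' f' f g) (F : ShA A X) :
    IsIso (bc0 A f g f' g' c.w F) := by
  have : Etale g' := MorphismProperty.of_isPullback (P := @Etale) c.flip inferInstance
  exact isIso_bc0_of_etale A f g f' g' c F

/-- transport of the base change morphism along equalities of the base change maps -/
lemma isIso_bc0_congr {g₁ g₂ : S' ⟶ S} {g₁' g₂' : X' ⟶ X} (hg : g₁ = g₂) (hg' : g₁' = g₂')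
    (w₁ : g₁' ≫ f = f' ≫ g₁) (w₂ : g₂' ≫ f = f' ≫ g₂) (F : ShA A X)
    (h : IsIso (bc0 A f g₁ f' g₁' w₁ F)) : IsIso (bc0 A f g₂ f' g₂' w₂ F) := by
  subst hg hg'
  exact h

end Square'

end Groth.Agent.Lib.Helper23.BC0
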