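import Groth.Agent.Lib.Helper23.BC0.Etale
import Groth.Agent.Lib.Helper23.EtGlue2
import Mathlib.CategoryTheory.Sites.LocallyBijective
import Mathlib.CategoryTheory.Limits.ConcreteCategory.Basic

/-!
# A morphism of sheaves of sets is an isomorphism if it is so étale-locally (helper23)
-/

set_option autoImplicit false

universe u

open CategoryTheory CategoryTheory.Limits Opposite AlgebraicGeometry

namespace Groth.Agent.Lib.Helper23.BC0

open Groth.Agent.Lib.Helper23

variable {X : Scheme.{u}}

/-- the covering sieve of `V` induced by a jointly surjective family -/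
lemma exists_counit_point {ι : Type u} (U : ι → X.Etale) (hU : EtCoh.Covers U) (V : X.Etale)
    (v : V.left) :
    ∃ (i : ι) (_ : Etale (U i).hom),
      v ∈ Set.range ((EtRestr.adjSite (U i).hom).counit.app V).left := by
  obtain ⟨i, y, hy⟩ := hU (V.hom v)
  have : Etale (U i).hom := (U i).prop
  obtain ⟨z, hz1, -⟩ := Scheme.Pullback.exists_preimage_pullback (f := V.hom) (g := (U i).hom) v y
    hy.symm
  exact ⟨i, this, z, hz1⟩

theorem isIso_of_cover {F G : ShA (Type (u + 1)) X} (φ : F ⟶ G) {ι : Type u} (U : ι → X.Etale)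
    (hU : EtCoh.Covers U) (h : ∀ i, IsIso ((pull (Type (u + 1)) (U i).hom).map φ)) :
    IsIso φ := by
  have hb : ∀ (i : ι) (_ : Etale (U i).hom) (W : (U i).left.Etale),
      Function.Bijective (φ.hom.app (op ((EtShriek.compEtale (U i).hom).obj W))) := by
    intro i _ W
    have h1 : IsIso ((res (Type (u + 1)) (U i).hom).map φ) :=
      (NatIso.isIso_map_iff (pullIsoRes (Type (u + 1)) (U i).hom) φ).1 (h i)
    have h2 : IsIso ((sheafToPresheaf _ _).map ((res (Type (u + 1)) (U i).hom).map φ)) :=
      Functor.map_isIso _ _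
    have h3 : IsIso (((sheafToPresheaf _ _).map ((res (Type (u + 1)) (U i).hom).map φ)).app
      (op W)) := inferInstance
    exact (isIso_iff_bijective _).1 h3
  refine (Sheaf.isLocallyBijective_iff_isIso (A := Type (u + 1)) φ).1 ⟨?_, ?_⟩
  · constructor
    intro V x y hxy
    apply EtGlue.sieve_mem_of_forall_point
    intro v
    obtain ⟨i, hi, hv⟩ := exists_counit_point U hU V.unop v
    refine ⟨_, (EtRestr.adjSite (U i).hom).counit.app V.unop, ?_, hv⟩
    change F.obj.map _ x = F.obj.map _ y
    apply (hb i hi _).1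
    have n1 := NatTrans.naturality_apply φ.hom
      ((EtRestr.adjSite (U i).hom).counit.app V.unop).op x
    have n2 := NatTrans.naturality_apply φ.hom
      ((EtRestr.adjSite (U i).hom).counit.app V.unop).op y
    exact n1.trans ((congrArg _ hxy).trans n2.symm)
  · constructor
    intro V s
    apply EtGlue.sieve_mem_of_forall_point
    intro v
    obtain ⟨i, hi, hv⟩ := exists_counit_point U hU V v
    refine ⟨_, (EtRestr.adjSite (U i).hom).counit.app V, ?_, hv⟩
    obtain ⟨t, ht⟩ := (hb i hi _).2
      (G.obj.map ((EtRestr.adjSite (U i).hom).counit.app V).op s)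
    exact ⟨t, ht⟩

end Groth.Agent.Lib.Helper23.BC0
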