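import Groth.Agent.Lib.Helper23.BC0.Local

/-!
# A morphism of abelian étale sheaves is an isomorphism if it is so étale-locally (helper23)
-/

set_option autoImplicit false

universe u

open CategoryTheory CategoryTheory.Limits Opposite AlgebraicGeometry

namespace Groth.Agent.Lib.Helper23.BC0

open Groth.Agent.Lib.Helper23

variable {X : Scheme.{u}}

theorem isIso_of_cover_ab {F G : EtCoh.Ab X} (φ : F ⟶ G) {ι : Type u} (U : ι → X.Etale)
    (hU : EtCoh.Covers U) (h : ∀ i, IsIso ((EtCoh.pull (U i).hom).map φ)) :
    IsIso φ := by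
  have hb : ∀ (i : ι) (_ : Etale (U i).hom) (W : (U i).left.Etale),
      Function.Bijective (φ.hom.app (op ((EtShriek.compEtale (U i).hom).obj W))) := by
    intro i _ W
    have h1 : IsIso ((res AddCommGrpCat.{u + 1} (U i).hom).map φ) :=
      (NatIso.isIso_map_iff (pullIsoRes AddCommGrpCat.{u + 1} (U i).hom) φ).1 (h i)
    have h2 : IsIso ((sheafToPresheaf _ _).map ((res AddCommGrpCat.{u + 1} (U i).hom).map φ)) :=
      Functor.map_isIso _ _
    have h3 : IsIso (((sheafToPresheaf _ _).map
      ((res AddCommGrpCat.{u + 1} (U i).hom).map φ)).app (op W)) := inferInstance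
    have h4 : IsIso (φ.hom.app (op ((EtShriek.compEtale (U i).hom).obj W))) := h3
    exact ConcreteCategory.bijective_of_isIso _
  refine (Sheaf.isLocallyBijective_iff_isIso (A := AddCommGrpCat.{u + 1}) φ).1 ⟨?_, ?_⟩
  · constructor
    intro V x y hxy
    apply EtGlue.sieve_mem_of_forall_point
    intro v
    obtain ⟨i, hi, hv⟩ := exists_counit_point U hU V.unop v
    refine ⟨_, (EtRestr.adjSite (U i).hom).counit.app V.unop, ?_, hv⟩
    change F.obj.map _ x = F.obj.map _ y
    apply (hb i hi _).1
    have n1 := NatTrans.naturality_apply φ.hom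
      ((EtRestr.adjSite (U i).hom).counit.app V.unop).op x
    have n2 := NatTrans.naturality_apply φ.hom
      ((EtRestr.adjSite (U i).hom).counit.app V.unop).op y
    exact n1.trans ((congrArg _ hxy).trans n2.symm)
  · constructor
    intro V s
    apply EtGlue.sieve_mem_of_forall_point
    intro v
    obtain ⟨i, hi, hv⟩ := exists_counit_point U hU V v
    refine ⟨_, (EtRestr.adjSite (U i).hom).counit.app V, ?_, hv⟩
    obtain ⟨t, ht⟩ := (hb i hi _).2
      (G.obj.map ((EtRestr.adjSite (U i).hom).counit.app V).op s)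
    exact ⟨t, ht⟩

end Groth.Agent.Lib.Helper23.BC0
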