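import Groth.Agent.Lib.Helper23.BC0.Etale

/-!
# The base change morphism is an isomorphism étale-locally on source and target (helper23)
-/

set_option autoImplicit false
set_option backward.isDefEq.respectTransparency false
set_option backward.isDefEq.respectTransparency.types false

universe w v u

open CategoryTheory CategoryTheory.Limits Opposite AlgebraicGeometry

namespace Groth.Agent.Lib.Helper23.BC0

variable (A : Type w) [Category.{v} A] [HasPull.{w, v, u} A]

variable {X S Y T U V Ti Yi : Scheme.{u}} (f : X ⟶ S) (g : T ⟶ S) (h : Y ⟶ X) (e : Y ⟶ T)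
  (c : IsPullback e h g f) (F : ShA A T)
  (u : U ⟶ X) [Etale u] (v : V ⟶ S) [Etale v] (a : U ⟶ V) (ha : a ≫ v = u ≫ f)
  (gi : Ti ⟶ V) (ti : Ti ⟶ T) (cT : IsPullback ti gi g v)
  (hi : Yi ⟶ U) (ei : Yi ⟶ Ti) (cY : IsPullback ei hi gi a)

include c ha cT cY in
/-- if the base change morphism of the localised square is an isomorphism, then the restriction
of the base change morphism to `U` is an isomorphism -/
theorem isIso_pull_bc0_of_local
    (hloc : IsIso (bc0 A gi a hi ei cY.w ((pull A ti).obj F))) :
    IsIso ((pull A u).map (bc0 A g f h e c.w F)) := by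
  -- the comparison morphism `Yi ⟶ Y`
  have hcond : (ei ≫ ti) ≫ g = (hi ≫ u) ≫ f := by
    rw [Category.assoc, cT.w, ← Category.assoc, cY.w, Category.assoc, ha, Category.assoc]
  let α : Yi ⟶ Y := c.lift (ei ≫ ti) (hi ≫ u) hcond
  have hα1 : α ≫ e = ei ≫ ti := c.lift_fst _ _ _
  have hα2 : α ≫ h = hi ≫ u := c.lift_snd _ _ _
  -- the two outer squares
  have cB : IsPullback (ei ≫ ti) hi g (a ≫ v) := cY.paste_horiz cT
  have cA' : IsPullback (α ≫ e) hi g (u ≫ f) := by
    rw [hα1, ← ha]
    exact cB
  have cA : IsPullback α hi h u := IsPullback.of_right cA' hα2 c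
  -- pasting for the decomposition through `V`
  have pB := bc0_paste A g v gi ti cT.w a hi ei cY.w cB.w F
  have i1 : IsIso (bc0 A g v gi ti cT.w F) := isIso_bc0_of_etale' A g v gi ti cT F
  have i2 : IsIso (bc0 A g (a ≫ v) hi (ei ≫ ti) cB.w F ≫
      (push A hi).map ((pullComp A ei ti).hom.app F)) := by
    rw [pB]
    infer_instance
  have i3 : IsIso (bc0 A g (a ≫ v) hi (ei ≫ ti) cB.w F) :=
    IsIso.of_isIso_comp_right _ ((push A hi).map ((pullComp A ei ti).hom.app F))
  -- transport to the other outer square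
  have i4 : IsIso (bc0 A g (u ≫ f) hi (α ≫ e) cA'.w F) :=
    isIso_bc0_congr A g hi ha hα1.symm cB.w cA'.w F i3
  -- pasting for the decomposition through `X`
  have pA := bc0_paste A g f h e c.w u hi α cA.w cA'.w F
  have i5 : IsIso (bc0 A h u hi α cA.w ((pull A e).obj F)) :=
    isIso_bc0_of_etale' A h u hi α cA _
  have i6 : IsIso ((pullComp A u f).hom.app ((push A g).obj F) ≫
      (pull A u).map (bc0 A g f h e c.w F) ≫ bc0 A h u hi α cA.w ((pull A e).obj F)) := by
    rw [← pA]
    infer_instance
  have i7 : IsIso ((pull A u).map (bc0 A g f h e c.w F) ≫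
      bc0 A h u hi α cA.w ((pull A e).obj F)) :=
    IsIso.of_isIso_comp_left ((pullComp A u f).hom.app ((push A g).obj F)) _
  exact IsIso.of_isIso_comp_right _ (bc0 A h u hi α cA.w ((pull A e).obj F))

end Groth.Agent.Lib.Helper23.BC0
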