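import Groth.Agent.Lib.Helper23.BC0.Site

/-!
# Pasting of degree-zero base change morphisms (helper23)
-/

set_option autoImplicit false
set_option backward.isDefEq.respectTransparency false
set_option backward.isDefEq.respectTransparency.types false

universe w v u

open CategoryTheory CategoryTheory.Limits Opposite AlgebraicGeometry

namespace Groth.Agent.Lib.Helper23.BC0

variable (A : Type w) [Category.{v} A]

section Formulas

variable {X Y Z : Scheme.{u}}

lemma pushComp_hom_app (f : X ⟶ Y) (g : Z ⟶ X) (M : ShA A Z) (V : Y.Etaleᵒᵖ) :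
    ((pushComp A f g).hom.app M).hom.app V =
      M.obj.map ((MorphismProperty.Over.pullbackComp (P := EtCoh.etaleMP) (Q := ⊤) g f).hom.app
        V.unop).op := by
  dsimp [pushComp]
  rw [Functor.sheafPushforwardContinuousComp'_hom_app_hom_app]
  rfl

lemma pushComp_inv_app (f : X ⟶ Y) (g : Z ⟶ X) (M : ShA A Z) (V : Y.Etaleᵒᵖ) :
    ((pushComp A f g).inv.app M).hom.app V =
      M.obj.map ((MorphismProperty.Over.pullbackComp (P := EtCoh.etaleMP) (Q := ⊤) g f).inv.app
        V.unop).op := by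
  dsimp [pushComp]
  rw [Functor.sheafPushforwardContinuousComp'_inv_app_hom_app]
  rfl

lemma pushCongr_hom_app {f f' : X ⟶ Y} (h : f = f') (M : ShA A X) (V : Y.Etaleᵒᵖ) :
    ((pushCongr A h).hom.app M).hom.app V =
      M.obj.map ((MorphismProperty.Over.pullbackCongr (P := EtCoh.etaleMP) (Q := ⊤) h).inv.app
        V.unop).op := rfl

lemma pushCongr_inv_app {f f' : X ⟶ Y} (h : f = f') (M : ShA A X) (V : Y.Etaleᵒᵖ) :
    ((pushCongr A h).inv.app M).hom.app V =
      M.obj.map ((MorphismProperty.Over.pullbackCongr (P := EtCoh.etaleMP) (Q := ⊤) h).hom.app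
        V.unop).op := rfl

lemma push_map_app (f : X ⟶ Y) {M M' : ShA A X} (φ : M ⟶ M') (V : Y.Etaleᵒᵖ) :
    ((push A f).map φ).hom.app V = φ.hom.app (op ((EtCoh.bc f).obj V.unop)) := rfl

lemma push_obj_map (f : X ⟶ Y) (M : ShA A X) {V V' : Y.Etaleᵒᵖ} (m : V ⟶ V') :
    ((push A f).obj M).obj.map m = M.obj.map ((EtCoh.bc f).map m.unop).op := rfl

end Formulas

section Coherence

variable {X S X' S' X'' S'' : Scheme.{u}} (f : X ⟶ S) (g : S' ⟶ S) (f' : X' ⟶ S') (g' : X' ⟶ X)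
  (w₁ : g' ≫ f = f' ≫ g) (k : S'' ⟶ S') (f'' : X'' ⟶ S'') (k' : X'' ⟶ X')
  (w₂ : k' ≫ f' = f'' ≫ k) (w₁₂ : (k' ≫ g') ≫ f = f'' ≫ (k ≫ g))

/-- first path of isomorphisms of iterated base changes -/
noncomputable def pathA (V : S.Etale) :
    (EtCoh.bc f'').obj ((EtCoh.bc (k ≫ g)).obj V) ⟶
      (EtCoh.bc k').obj ((EtCoh.bc g').obj ((EtCoh.bc f).obj V)) :=
  (MorphismProperty.Over.pullbackComp (P := EtCoh.etaleMP) (Q := ⊤) f'' (k ≫ g)).inv.app V ≫
    (MorphismProperty.Over.pullbackCongr (P := EtCoh.etaleMP) (Q := ⊤) w₁₂).inv.app V ≫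
    (MorphismProperty.Over.pullbackComp (P := EtCoh.etaleMP) (Q := ⊤) (k' ≫ g') f).hom.app V ≫
    (MorphismProperty.Over.pullbackComp (P := EtCoh.etaleMP) (Q := ⊤) k' g').hom.app
      ((EtCoh.bc f).obj V)

/-- second path of isomorphisms of iterated base changes -/
noncomputable def pathB (V : S.Etale) :
    (EtCoh.bc f'').obj ((EtCoh.bc (k ≫ g)).obj V) ⟶
      (EtCoh.bc k').obj ((EtCoh.bc g').obj ((EtCoh.bc f).obj V)) :=
  (EtCoh.bc f'').map
      ((MorphismProperty.Over.pullbackComp (P := EtCoh.etaleMP) (Q := ⊤) k g).hom.app V) ≫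
    (MorphismProperty.Over.pullbackComp (P := EtCoh.etaleMP) (Q := ⊤) f'' k).inv.app
      ((EtCoh.bc g).obj V) ≫
    (MorphismProperty.Over.pullbackCongr (P := EtCoh.etaleMP) (Q := ⊤) w₂).inv.app
      ((EtCoh.bc g).obj V) ≫
    (MorphismProperty.Over.pullbackComp (P := EtCoh.etaleMP) (Q := ⊤) k' f').hom.app
      ((EtCoh.bc g).obj V) ≫
    (EtCoh.bc k').map
      ((MorphismProperty.Over.pullbackComp (P := EtCoh.etaleMP) (Q := ⊤) f' g).inv.app V ≫
        (MorphismProperty.Over.pullbackCongr (P := EtCoh.etaleMP) (Q := ⊤) w₁).inv.app V ≫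
        (MorphismProperty.Over.pullbackComp (P := EtCoh.etaleMP) (Q := ⊤) g' f).hom.app V)

lemma pathA_pr (V : S.Etale) :
    (pathA f g g' k f'' k' w₁₂ V).left ≫ pr k' _ ≫ pr g' _ ≫ pr f V =
      pr f'' _ ≫ pr (k ≫ g) V := by
  refine comp_left_eq _ _ _ (pr (f'' ≫ (k ≫ g)) V) _ (comp_inv_pr f'' (k ≫ g) V) ?_
  refine comp_left_eq _ _ _ (pr ((k' ≫ g') ≫ f) V) _ (congr_inv_pr w₁₂ V) ?_
  refine comp_left_eq _ _ _ (pr (k' ≫ g') _ ≫ pr f V) _ (comp_hom_pr (k' ≫ g') f V) ?_
  have h := comp_hom_pr k' g' ((EtCoh.bc f).obj V)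
  rw [← h]
  simp only [Category.assoc]

lemma pathB_pr (V : S.Etale) :
    (pathB f g f' g' w₁ k f'' k' w₂ V).left ≫ pr k' _ ≫ pr g' _ ≫ pr f V =
      pr f'' _ ≫ pr (k ≫ g) V := by
  have hm : ((MorphismProperty.Over.pullbackComp (P := EtCoh.etaleMP) (Q := ⊤) f' g).inv.app V ≫
      (MorphismProperty.Over.pullbackCongr (P := EtCoh.etaleMP) (Q := ⊤) w₁).inv.app V ≫
      (MorphismProperty.Over.pullbackComp (P := EtCoh.etaleMP) (Q := ⊤) g' f).hom.app V).left ≫
      (pr g' _ ≫ pr f V) = pr f' _ ≫ pr g V := by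
    refine comp_left_eq _ _ _ (pr (f' ≫ g) V) _ (comp_inv_pr f' g V) ?_
    refine comp_left_eq _ _ _ (pr (g' ≫ f) V) _ (congr_inv_pr w₁ V) ?_
    exact comp_hom_pr g' f V
  have hk : ((MorphismProperty.Over.pullbackComp (P := EtCoh.etaleMP) (Q := ⊤) k g).hom.app
      V).left ≫ (pr k _ ≫ pr g V) = pr (k ≫ g) V := comp_hom_pr k g V
  refine comp_left_eq _ _ _ (pr f'' _ ≫ pr k _ ≫ pr g V) _
    (bc_map_left_eq f'' _ _ _ hk) ?_
  refine comp_left_eq _ _ _ (pr (f'' ≫ k) _ ≫ pr g V) _ ?_ ?_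
  · have h := comp_inv_pr f'' k ((EtCoh.bc g).obj V)
    rw [← Category.assoc, h, Category.assoc]
  refine comp_left_eq _ _ _ (pr (k' ≫ f') _ ≫ pr g V) _ ?_ ?_
  · have h := congr_inv_pr w₂ ((EtCoh.bc g).obj V)
    rw [← Category.assoc, h]
  refine comp_left_eq _ _ _ (pr k' _ ≫ pr f' _ ≫ pr g V) _ ?_ ?_
  · have h := comp_hom_pr k' f' ((EtCoh.bc g).obj V)
    rw [← h]
    simp only [Category.assoc]
  exact bc_map_left_eq k' _ _ _ hm

lemma pathA_eq_pathB (V : S.Etale) :
    pathA f g g' k f'' k' w₁₂ V = pathB f g f' g' w₁ k f'' k' w₂ V := by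
  apply hom_ext_bc₃
  rw [pathA_pr, pathB_pr]

variable (N : ShA A X'')

lemma cohA_app (V : S.Etaleᵒᵖ) :
    ((push A f).map ((pushComp A g' k').hom.app N) ≫ (pushComp A f (k' ≫ g')).hom.app N ≫
      (pushCongr A w₁₂).hom.app N ≫ (pushComp A (k ≫ g) f'').inv.app N).hom.app V =
      N.obj.map (pathA f g g' k f'' k' w₁₂ V.unop).op := by
  simp only [ObjectProperty.FullSubcategory.comp_hom, NatTrans.comp_app, push_map_app,
    pushComp_hom_app, pushComp_inv_app, pushCongr_hom_app, pathA, op_comp, Functor.map_comp,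
    Category.assoc]

lemma cohB_app (V : S.Etaleᵒᵖ) :
    ((pushComp A f g').hom.app ((push A k').obj N) ≫
      (pushCongr A w₁).hom.app ((push A k').obj N) ≫
      (pushComp A g f').inv.app ((push A k').obj N) ≫
      (push A g).map ((pushComp A f' k').hom.app N ≫ (pushCongr A w₂).hom.app N ≫
        (pushComp A k f'').inv.app N) ≫
      (pushComp A g k).hom.app ((push A f'').obj N)).hom.app V =
      N.obj.map (pathB f g f' g' w₁ k f'' k' w₂ V.unop).op := by
  simp only [ObjectProperty.FullSubcategory.comp_hom, NatTrans.comp_app, push_map_app,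
    pushComp_hom_app, pushComp_inv_app, pushCongr_hom_app, pathB, op_comp, Functor.map_comp,
    Category.assoc, push_obj_map]
  rfl

/-- coherence of the composition isomorphisms of direct images for two pasted squares -/
theorem coherence :
    (push A f).map ((pushComp A g' k').hom.app N) ≫ (pushComp A f (k' ≫ g')).hom.app N ≫
      (pushCongr A w₁₂).hom.app N ≫ (pushComp A (k ≫ g) f'').inv.app N =
    (pushComp A f g').hom.app ((push A k').obj N) ≫
      (pushCongr A w₁).hom.app ((push A k').obj N) ≫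
      (pushComp A g f').inv.app ((push A k').obj N) ≫
      (push A g).map ((pushComp A f' k').hom.app N ≫ (pushCongr A w₂).hom.app N ≫
        (pushComp A k f'').inv.app N) ≫
      (pushComp A g k).hom.app ((push A f'').obj N) := by
  apply ObjectProperty.hom_ext
  ext V : 2
  rw [cohA_app, cohB_app, pathA_eq_pathB f g f' g' w₁ k f'' k' w₂ w₁₂]

end Coherence

end Groth.Agent.Lib.Helper23.BC0
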