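import Groth.Agent.Lib.Helper23.BC0.Paste

/-!
# Pasting of degree-zero base change morphisms: the pasting theorem (helper23)
-/

set_option autoImplicit false
set_option backward.isDefEq.respectTransparency false
set_option backward.isDefEq.respectTransparency.types false

universe w v u

open CategoryTheory CategoryTheory.Limits Opposite AlgebraicGeometry

namespace Groth.Agent.Lib.Helper23.BC0

variable (A : Type w) [Category.{v} A]

section Sq

variable {X S X' S' : Scheme.{u}}

/-- the isomorphism `f_* g'_* ≅ g_* f'_*` of a commutative square -/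
noncomputable def sq (f : X ⟶ S) (g : S' ⟶ S) (f' : X' ⟶ S') (g' : X' ⟶ X)
    (w : g' ≫ f = f' ≫ g) : push A g' ⋙ push A f ≅ push A f' ⋙ push A g :=
  pushComp A f g' ≪≫ pushCongr A w ≪≫ (pushComp A g f').symm

lemma sq_hom_app (f : X ⟶ S) (g : S' ⟶ S) (f' : X' ⟶ S') (g' : X' ⟶ X)
    (w : g' ≫ f = f' ≫ g) (N : ShA A X') :
    (sq A f g f' g' w).hom.app N =
      (pushComp A f g').hom.app N ≫ (pushCongr A w).hom.app N ≫ (pushComp A g f').inv.app N :=
  rfl

variable [HasPull.{w, v, u} A]

lemma bcφ_eq (f : X ⟶ S) (g : S' ⟶ S) (f' : X' ⟶ S') (g' : X' ⟶ X)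
    (w : g' ≫ f = f' ≫ g) (F : ShA A X) :
    bcφ A f g f' g' w F =
      (push A f).map ((adj A g').unit.app F) ≫ (sq A f g f' g' w).hom.app _ := rfl

end Sq

section UnitComp

variable [HasPull.{w, v, u} A] {X Y Z : Scheme.{u}}

/-- the unit of `(f ≫ g)^* ⊣ (f ≫ g)_*` through the composition isomorphisms -/
lemma unit_pullComp (f : X ⟶ Y) (g : Y ⟶ Z) (G : ShA A Z) :
    (adj A (f ≫ g)).unit.app G ≫ (push A (f ≫ g)).map ((pullComp A f g).hom.app G) =
      (adj A g).unit.app G ≫ (push A g).map ((adj A f).unit.app ((pull A g).obj G)) ≫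
        (pushComp A g f).hom.app ((pull A f).obj ((pull A g).obj G)) := by
  have h := Adjunction.unit_leftAdjointUniq_hom_app (adj A (f ≫ g))
    (((adj A g).comp (adj A f)).ofNatIsoRight (pushComp A g f)) G
  rw [Adjunction.ofNatIsoRight_unit, NatTrans.comp_app, Functor.whiskerLeft_app,
    Adjunction.comp_unit_app] at h
  simp only [Functor.comp_obj, Category.assoc] at h
  exact h

end UnitComp

section Pasting

variable [HasPull.{w, v, u} A]

variable {X S X' S' X'' S'' : Scheme.{u}} (f : X ⟶ S) (g : S' ⟶ S) (f' : X' ⟶ S') (g' : X' ⟶ X)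
  (w₁ : g' ≫ f = f' ≫ g) (k : S'' ⟶ S') (f'' : X'' ⟶ S'') (k' : X'' ⟶ X')
  (w₂ : k' ≫ f' = f'' ≫ k) (w₁₂ : (k' ≫ g') ≫ f = f'' ≫ (k ≫ g))

omit [HasPull.{w, v, u} A] in
/-- coherence in terms of `sq` -/
lemma coherence_sq (N : ShA A X'') :
    (push A f).map ((pushComp A g' k').hom.app N) ≫
        (sq A f (k ≫ g) f'' (k' ≫ g') w₁₂).hom.app N =
      (sq A f g f' g' w₁).hom.app ((push A k').obj N) ≫
        (push A g).map ((sq A f' k f'' k' w₂).hom.app N) ≫
          (pushComp A g k).hom.app ((push A f'').obj N) := by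
  have h := coherence A f g f' g' w₁ k f'' k' w₂ w₁₂ N
  simp only [sq_hom_app, Category.assoc]
  exact h

/-- pasting of base change morphisms, adjoint form -/
theorem bcφ_paste (F : ShA A X) :
    bcφ A f (k ≫ g) f'' (k' ≫ g') w₁₂ F ≫
        (push A (k ≫ g)).map ((push A f'').map ((pullComp A k' g').hom.app F)) =
      bcφ A f g f' g' w₁ F ≫ (push A g).map (bcφ A f' k f'' k' w₂ ((pull A g').obj F)) ≫
        (pushComp A g k).hom.app _ := by
  have n1 := (sq A f (k ≫ g) f'' (k' ≫ g') w₁₂).hom.naturality ((pullComp A k' g').hom.app F)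
  have n2 := (sq A f g f' g' w₁).hom.naturality ((adj A k').unit.app ((pull A g').obj F))
  have hu := unit_pullComp A k' g' F
  have hc := coherence_sq A f g f' g' w₁ k f'' k' w₂ w₁₂ ((pull A k').obj ((pull A g').obj F))
  simp only [Functor.comp_obj, Functor.comp_map, Functor.id_obj] at n1 n2
  rw [bcφ_eq, bcφ_eq, bcφ_eq, Category.assoc, ← n1, ← Category.assoc, ← Functor.map_comp, hu,
    Functor.map_comp, Functor.map_comp, Category.assoc, Category.assoc, hc,
    Functor.map_comp, Category.assoc, Category.assoc, ← reassoc_of% n2]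

/-- pasting of base change morphisms -/
theorem bc0_paste (F : ShA A X) :
    bc0 A f (k ≫ g) f'' (k' ≫ g') w₁₂ F ≫ (push A f'').map ((pullComp A k' g').hom.app F) =
      (pullComp A k g).hom.app ((push A f).obj F) ≫ (pull A k).map (bc0 A f g f' g' w₁ F) ≫
        bc0 A f' k f'' k' w₂ ((pull A g').obj F) := by
  apply ((adj A (k ≫ g)).homEquiv _ _).injective
  rw [Adjunction.homEquiv_unit, Adjunction.homEquiv_unit]
  have n1 := (pushComp A g k).hom.naturality
    ((pull A k).map (bc0 A f g f' g' w₁ F) ≫ bc0 A f' k f'' k' w₂ ((pull A g').obj F))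
  have n2 := (adj A k).unit.naturality (bc0 A f g f' g' w₁ F)
  have u1 := unit_bc0 A f g f' g' w₁ F
  have u2 := unit_bc0 A f' k f'' k' w₂ ((pull A g').obj F)
  have hp := unit_pullComp A k g ((push A f).obj F)
  simp only [Functor.comp_obj, Functor.comp_map, Functor.id_obj, Functor.id_map] at n1 n2
  have hL : (adj A (k ≫ g)).unit.app ((push A f).obj F) ≫ (push A (k ≫ g)).map
      (bc0 A f (k ≫ g) f'' (k' ≫ g') w₁₂ F ≫
        (push A f'').map ((pullComp A k' g').hom.app F)) =
      bcφ A f g f' g' w₁ F ≫ (push A g).map (bcφ A f' k f'' k' w₂ ((pull A g').obj F)) ≫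
        (pushComp A g k).hom.app _ := by
    rw [Functor.map_comp, ← Category.assoc, unit_bc0]
    exact bcφ_paste A f g f' g' w₁ k f'' k' w₂ w₁₂ F
  have hR : (adj A (k ≫ g)).unit.app ((push A f).obj F) ≫ (push A (k ≫ g)).map
      ((pullComp A k g).hom.app ((push A f).obj F) ≫ (pull A k).map (bc0 A f g f' g' w₁ F) ≫
        bc0 A f' k f'' k' w₂ ((pull A g').obj F)) =
      bcφ A f g f' g' w₁ F ≫ (push A g).map (bcφ A f' k f'' k' w₂ ((pull A g').obj F)) ≫
        (pushComp A g k).hom.app _ := by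
    rw [Functor.map_comp, ← Category.assoc, hp, Category.assoc, Category.assoc, ← n1, ← u1, ← u2]
    have n2' := congrArg (fun t => (push A g).map t) n2
    simp only [Functor.map_comp] at n2'
    simp only [Functor.map_comp, Category.assoc]
    rw [reassoc_of% n2']
  rw [hL, hR]

end Pasting

end Groth.Agent.Lib.Helper23.BC0
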