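import Groth.Agent.Lib.Helper23.BC0.Defs

/-!
# Site-level lemmas on iterated base change in small étale sites (helper23)
-/

set_option autoImplicit false
set_option backward.isDefEq.respectTransparency false
set_option backward.isDefEq.respectTransparency.types false

universe u

open CategoryTheory CategoryTheory.Limits Opposite AlgebraicGeometry

namespace Groth.Agent.Lib.Helper23.BC0

variable {X Y Z : Scheme.{u}}

/-- the projection `V ×_Y X ⟶ V` -/
noncomputable abbrev pr (f : X ⟶ Y) (V : Y.Etale) : ((EtCoh.bc f).obj V).left ⟶ V.left :=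
  pullback.fst V.hom f

lemma bc_obj_hom (f : X ⟶ Y) (V : Y.Etale) :
    ((EtCoh.bc f).obj V).hom = pullback.snd V.hom f := rfl

/-- morphisms into a base change are determined by their projection -/
lemma hom_ext_bc (f : X ⟶ Y) (V : Y.Etale) {P : X.Etale} (a b : P ⟶ (EtCoh.bc f).obj V)
    (h : a.left ≫ pr f V = b.left ≫ pr f V) : a = b := by
  apply MorphismProperty.Over.Hom.ext
  apply pullback.hom_ext h
  have ha : a.left ≫ pullback.snd V.hom f = P.hom := MorphismProperty.Over.w a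
  have hb : b.left ≫ pullback.snd V.hom f = P.hom := MorphismProperty.Over.w b
  rw [ha, hb]

lemma bc_map_pr (f : X ⟶ Y) {V V' : Y.Etale} (m : V ⟶ V') :
    ((EtCoh.bc f).map m).left ≫ pr f V' = pr f V ≫ m.left := by
  dsimp [EtCoh.bc]
  exact pullback.lift_fst _ _ _

lemma comp_hom_pr (g : Z ⟶ X) (f : X ⟶ Y) (V : Y.Etale) :
    ((MorphismProperty.Over.pullbackComp (P := EtCoh.etaleMP) (Q := ⊤) g f).hom.app V).left ≫
      pr g ((EtCoh.bc f).obj V) ≫ pr f V = pr (g ≫ f) V :=
  MorphismProperty.Over.pullbackComp_left_fst_fst (P := EtCoh.etaleMP) (Q := ⊤) g f V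

lemma comp_inv_pr (g : Z ⟶ X) (f : X ⟶ Y) (V : Y.Etale) :
    ((MorphismProperty.Over.pullbackComp (P := EtCoh.etaleMP) (Q := ⊤) g f).inv.app V).left ≫
      pr (g ≫ f) V = pr g ((EtCoh.bc f).obj V) ≫ pr f V := by
  rw [← comp_hom_pr g f V, ← Category.assoc]
  have : ((MorphismProperty.Over.pullbackComp (P := EtCoh.etaleMP) (Q := ⊤) g f).inv.app V).left ≫
      ((MorphismProperty.Over.pullbackComp (P := EtCoh.etaleMP) (Q := ⊤) g f).hom.app V).left =
      𝟙 _ := by
    rw [← MorphismProperty.Comma.comp_left, Iso.inv_hom_id_app]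
    rfl
  rw [this, Category.id_comp]

lemma congr_hom_pr {f f' : X ⟶ Y} (h : f = f') (V : Y.Etale) :
    ((MorphismProperty.Over.pullbackCongr (P := EtCoh.etaleMP) (Q := ⊤) h).hom.app V).left ≫
      pr f' V = pr f V :=
  MorphismProperty.Over.pullbackCongr_hom_app_left_fst (P := EtCoh.etaleMP) (Q := ⊤) h V

lemma congr_inv_pr {f f' : X ⟶ Y} (h : f = f') (V : Y.Etale) :
    ((MorphismProperty.Over.pullbackCongr (P := EtCoh.etaleMP) (Q := ⊤) h).inv.app V).left ≫
      pr f V = pr f' V := by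
  rw [← congr_hom_pr h V, ← Category.assoc]
  have : ((MorphismProperty.Over.pullbackCongr (P := EtCoh.etaleMP) (Q := ⊤) h).inv.app V).left ≫
      ((MorphismProperty.Over.pullbackCongr (P := EtCoh.etaleMP) (Q := ⊤) h).hom.app V).left =
      𝟙 _ := by
    rw [← MorphismProperty.Comma.comp_left, Iso.inv_hom_id_app]
    rfl
  rw [this, Category.id_comp]

lemma pr_hom (f : X ⟶ Y) (V : Y.Etale) :
    pr f V ≫ V.hom = ((EtCoh.bc f).obj V).hom ≫ f :=
  pullback.condition

/-- scheme morphisms into a base change are determined by projection and structure map -/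
lemma left_ext_bc (f : X ⟶ Y) (V : Y.Etale) {T : Scheme.{u}}
    (c d : T ⟶ ((EtCoh.bc f).obj V).left) (h₁ : c ≫ pr f V = d ≫ pr f V)
    (h₂ : c ≫ ((EtCoh.bc f).obj V).hom = d ≫ ((EtCoh.bc f).obj V).hom) : c = d :=
  pullback.hom_ext h₁ h₂

variable {X₁ X₂ X₃ : Scheme.{u}}

/-- morphisms into a triple base change are determined by the total projection -/
lemma hom_ext_bc₃ (k' : X₃ ⟶ X₂) (g' : X₂ ⟶ X₁) (f : X₁ ⟶ Y) (V : Y.Etale) {P : X₃.Etale}
    (a b : P ⟶ (EtCoh.bc k').obj ((EtCoh.bc g').obj ((EtCoh.bc f).obj V)))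
    (h : a.left ≫ pr k' _ ≫ pr g' _ ≫ pr f V = b.left ≫ pr k' _ ≫ pr g' _ ≫ pr f V) : a = b := by
  have ha : a.left ≫ ((EtCoh.bc k').obj ((EtCoh.bc g').obj ((EtCoh.bc f).obj V))).hom = P.hom :=
    MorphismProperty.Over.w a
  have hb : b.left ≫ ((EtCoh.bc k').obj ((EtCoh.bc g').obj ((EtCoh.bc f).obj V))).hom = P.hom :=
    MorphismProperty.Over.w b
  have e1 := pr_hom k' ((EtCoh.bc g').obj ((EtCoh.bc f).obj V))
  have e2 := pr_hom g' ((EtCoh.bc f).obj V)
  apply hom_ext_bc
  apply left_ext_bc g' ((EtCoh.bc f).obj V)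
  · apply left_ext_bc f V
    · simp only [Category.assoc]
      exact h
    · simp only [Category.assoc]
      rw [e2, reassoc_of% e1, reassoc_of% ha, reassoc_of% hb]
  · simp only [Category.assoc]
    rw [e1, reassoc_of% ha, reassoc_of% hb]

/-- composition of compatibilities with projections -/
lemma comp_left_eq {W : Scheme.{u}} {P Q R : X.Etale} (a : P ⟶ Q) (b : Q ⟶ R)
    (πP : P.left ⟶ W) (πQ : Q.left ⟶ W) (πR : R.left ⟶ W) (ha : a.left ≫ πQ = πP)
    (hb : b.left ≫ πR = πQ) : (a ≫ b).left ≫ πR = πP := by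
  change (a.left ≫ b.left) ≫ πR = πP
  rw [Category.assoc, hb, ha]

lemma bc_map_left_eq (h : X ⟶ Y) {V V' : Y.Etale} (m : V ⟶ V') {T : Scheme.{u}}
    (π : V.left ⟶ T) (π' : V'.left ⟶ T) (hm : m.left ≫ π' = π) :
    ((EtCoh.bc h).map m).left ≫ (pr h V' ≫ π') = pr h V ≫ π := by
  rw [← Category.assoc, bc_map_pr, Category.assoc, hm]

end Groth.Agent.Lib.Helper23.BC0
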